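import Cfsg.Agent.Lib.Sz8Cover.Basic
import Cfsg.Prelude.Def_Sz

/-!
Carrying `Sz(8)` from the coded field to any field with eight elements.
-/

set_option autoImplicit false
set_option linter.style.haveILetI false

namespace Cfsg.Agent.Lib.Sz8Cover

open Cfsg.Agent.Lib.LieTwisted.Suzuki

universe u v

/-- A field isomorphism carries one Suzuki group into the other. -/
theorem map_mem {K : Type v} {F : Type u} [Field K] [Fintype K] [Field F] [Fintype F] {m : ℕ}
    (hK : IsSzField K m) (hF : IsSzField F m) (hm : 1 ≤ m) (ρ : K ≃+* F)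
    {g : Matrix.SpecialLinearGroup (Fin 4) K} (hg : g ∈ Cfsg.Sz K m) :
    Matrix.SpecialLinearGroup.map ρ.toRingHom g ∈ Cfsg.Sz F m := by
  rw [hK.mem_Sz_iff hm] at hg
  rw [hF.mem_Sz_iff hm]
  have hs : ∀ x, ρ (sg m x) = sg m (ρ x) := fun x => map_pow ρ x _
  have hu : ∀ a b, (utMat m a b).map ρ.toRingHom = utMat m (ρ a) (ρ b) := fun a b => by
    ext i j; fin_cases i <;> fin_cases j <;> simp [utMat, zfun, hs]
  have hd : ∀ e, (dgMat m e).map ρ.toRingHom = dgMat m (ρ e) := fun e => by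
    ext i j; fin_cases i <;> fin_cases j <;> simp [dgMat, hs]
  have hw : (wMat K).map ρ.toRingHom = wMat F := by
    ext i j; fin_cases i <;> fin_cases j <;> simp [wMat]
  obtain ⟨a, b, e, he, hg | ⟨x, y, hg⟩⟩ := hg
  · refine ⟨ρ a, ρ b, ρ e, by simpa using he, Or.inl ?_⟩
    show (g : Matrix (Fin 4) (Fin 4) K).map ρ.toRingHom = _
    rw [hg, Matrix.map_mul, hu, hd]
  · refine ⟨ρ a, ρ b, ρ e, by simpa using he, Or.inr ⟨ρ x, ρ y, ?_⟩⟩
    show (g : Matrix (Fin 4) (Fin 4) K).map ρ.toRingHom = _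
    rw [hg, Matrix.map_mul, Matrix.map_mul, Matrix.map_mul, hu, hu, hd, hw]

/-- Isomorphic fields give isomorphic Suzuki groups. -/
def szCongr {K : Type v} {F : Type u} [Field K] [Fintype K] [Field F] [Fintype F] {m : ℕ}
    (hK : IsSzField K m) (hF : IsSzField F m) (hm : 1 ≤ m) (ρ : K ≃+* F) :
    Cfsg.Sz K m ≃* Cfsg.Sz F m where
  toFun g := ⟨Matrix.SpecialLinearGroup.map ρ.toRingHom g.1, map_mem hK hF hm ρ g.2⟩
  invFun g := ⟨Matrix.SpecialLinearGroup.map ρ.symm.toRingHom g.1, map_mem hF hK hm ρ.symm g.2⟩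
  left_inv g := Subtype.ext (Subtype.ext (by ext i j; exact ρ.symm_apply_apply _))
  right_inv g := Subtype.ext (Subtype.ext (by ext i j; exact ρ.apply_symm_apply _))
  map_mul' g k := Subtype.ext (map_mul (Matrix.SpecialLinearGroup.map ρ.toRingHom) g.1 k.1)

end Cfsg.Agent.Lib.Sz8Cover
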