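import Cfsg.Agent.Lib.Sz8Cover.Gen

/-! Words in two generators (letters `0, 1, 2, 3` for `a, a⁻¹, b, b⁻¹`): where the relators come
from, and expressions of elements of `Sz(8)`. Produced by a search program. -/

set_option autoImplicit false

namespace Cfsg.Agent.Lib.Sz8Cover

/-- A relator which is a conjugate of `(u x^k u⁻¹ y^j)^(±1)`, where `x`, `y` have order `o`. -/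
structure Exact where
  l : List ℕ
  c : List ℕ
  neg : Bool
  u : List ℕ
  x : ℕ
  k : ℕ
  y : ℕ
  j : ℕ
  o : ℕ

/-- The exact relators. -/
def exact : List Exact := [
  ⟨[0, 2, 0, 3, 1, 2, 0, 3, 1, 2, 0, 3, 3, 0, 2, 2, 1, 3, 0, 2, 1, 3, 0, 2, 1, 3], [2, 0, 3, 1, 2, 0, 3, 1, 2, 0, 3, 3, 1, 2, 2, 1, 3, 0, 2, 1, 3, 0, 2, 1, 3], false, [2, 0, 3, 1, 2, 0, 3, 1, 2, 0, 3, 3], 0, 1, 0, 1, 5⟩,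
  ⟨[0, 2, 0, 3, 1, 2, 0, 3, 1, 2, 0, 3, 1, 2, 2, 0, 3, 3, 0, 2, 1, 3, 0, 2, 1, 3], [2, 0, 3, 1, 2, 0, 3, 1, 2, 2, 1, 3, 3, 0, 2, 1, 3, 0, 2, 1, 3, 0, 2], false, [3, 1, 2, 0, 3, 1, 2, 0, 3, 1, 2, 2], 0, 1, 0, 1, 5⟩,
  ⟨[0, 0, 2, 2, 2, 2, 0, 0, 3, 3, 3, 1, 2, 0, 2, 2, 2, 1, 1, 3, 3, 3, 3, 1, 1, 2], [], false, [0, 0, 2, 2, 2, 2, 0, 0, 3, 3, 3, 1], 2, 1, 2, 1, 13⟩,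
  ⟨[0, 0, 3, 1, 2, 0, 3, 1, 2, 0, 3, 1, 2, 0, 2, 1, 3, 0, 2, 1, 3, 0, 2, 1, 1, 2], [], false, [0, 0, 3, 1, 2, 0, 3, 1, 2, 0, 3, 1], 2, 1, 2, 1, 13⟩,
  ⟨[0, 0, 3, 3, 3, 1, 2, 2, 2, 0, 3, 1, 2, 0, 2, 1, 3, 3, 3, 0, 2, 2, 2, 1, 1, 2], [], false, [0, 0, 3, 3, 3, 1, 2, 2, 2, 0, 3, 1], 2, 1, 2, 1, 13⟩,
  ⟨[0, 0, 2, 1, 1, 2, 0, 3, 1, 2, 0, 3, 1, 2, 0, 2, 1, 3, 0, 2, 1, 3, 0, 2, 1, 3], [2, 0, 3, 1, 2, 0, 3, 1, 2, 0, 3, 1, 3, 0, 2, 1, 3, 0, 2, 1, 3, 0, 0], false, [1, 1, 2, 0, 3, 1, 2, 0, 3, 1, 2, 0], 2, 1, 2, 1, 13⟩,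
  ⟨[0, 0, 2, 2, 2, 2, 0, 0, 3, 3, 3, 1, 2, 2, 0, 2, 2, 2, 1, 1, 3, 3, 3, 3, 1, 1, 2, 2], [], false, [0, 0, 2, 2, 2, 2, 0, 0, 3, 3, 3, 1], 2, 2, 2, 2, 13⟩,
  ⟨[0, 0, 3, 1, 2, 0, 3, 1, 2, 0, 3, 1, 2, 2, 0, 2, 1, 3, 0, 2, 1, 3, 0, 2, 1, 1, 2, 2], [], false, [0, 0, 3, 1, 2, 0, 3, 1, 2, 0, 3, 1], 2, 2, 2, 2, 13⟩]

/-- A word of order dividing two. -/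
def cz : List ℕ := [0, 3, 0, 3]

/-- The commutator relators of `cz`: relator, conjugator, generator letter. -/
def central : List (List ℕ × List ℕ × ℕ) := [([3, 0, 3, 0, 2, 1, 2, 1], [1], 0), ([0, 3, 0, 2, 1, 2, 1, 3], [], 2)]

/-- Words for the unipotent elements. -/
def uW : List (List ℕ) := [
  [],
  [1, 2, 0, 3, 1, 2, 0, 3, 1, 2, 0, 3, 3],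
  [0, 3],
  [0, 0, 3, 1, 2, 0, 3, 1, 2, 0, 3, 1, 2],
  [0, 0, 2, 0, 3, 3, 1, 1, 3, 1, 2, 2, 0],
  [0, 0, 2, 0, 3, 1, 2, 2, 0, 3, 1, 2, 2, 0],
  [1, 1, 3, 1, 3, 3, 1, 3, 3, 1, 2, 0, 2],
  [0, 0, 3, 1, 2, 2, 0, 2, 0, 2, 0, 3, 1, 2],
  [0, 2, 2, 0, 0, 3, 3, 1, 1, 2, 2, 0, 2],
  [0, 2, 0, 2, 0, 3, 1, 3, 1, 2, 0, 2, 2],
  [3, 1, 1, 2, 2, 0, 0, 3, 3, 1, 1, 2],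
  [1, 2, 0, 2, 0, 3, 1, 3, 1, 2, 0, 2],
  [0, 0, 3, 3, 1, 2, 2, 2, 2, 0, 2, 2, 0, 2],
  [0, 0, 2, 2, 2, 0, 3, 3, 1, 1, 3, 1, 3, 3],
  [3, 1, 3, 1, 1, 3, 1, 2, 2, 2, 2, 0],
  [1, 3, 3, 3, 1, 2, 2, 0, 0, 2, 0, 2],
  [3, 1, 2, 0, 2, 0, 2, 0, 0, 2, 2, 0, 0],
  [0, 2, 0, 2, 0, 3, 3, 3, 1, 3, 1, 3],
  [1, 2, 0, 3, 1, 2, 0, 2, 0, 2, 0, 0, 2, 0],
  [3, 1, 3, 1, 2, 2, 2, 0, 2, 0],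
  [1, 3, 1, 3, 3, 1, 2, 2, 0, 2],
  [1, 1, 2, 2, 0, 0, 2, 0, 2, 0, 0, 3, 3, 3],
  [0, 0, 2, 0, 2, 2, 0, 3, 3, 1, 3, 3],
  [1, 1, 3, 3, 1, 1, 3, 1, 3, 1, 1, 2, 2],
  [1, 2, 0, 3, 1, 3, 1, 1, 2, 2, 2],
  [0, 2, 2, 0, 0, 3, 3, 1, 2, 2, 0, 2, 0],
  [3, 3, 1, 2, 0, 2, 0, 0, 3, 1, 2],
  [0, 0, 2, 0, 2, 0, 3, 3, 1, 2, 0, 2, 2],
  [1, 1, 2, 0, 2, 2, 2, 0, 2, 0, 2, 0],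
  [1, 3, 1, 1, 2, 2, 0, 2, 0, 2, 0, 0, 2, 2],
  [1, 1, 2, 2, 0, 2, 0, 2, 0, 2, 2, 2],
  [3, 3, 1, 1, 3, 1, 3, 1, 3, 1, 2, 0, 2, 0],
  [1, 1, 3, 3, 1, 1, 2, 0, 2, 2, 2, 2, 2, 0],
  [1, 2, 2, 2, 0, 0, 3, 1, 2, 2, 0, 2, 0],
  [1, 3, 1, 3, 1, 2, 0, 3, 1, 3, 3, 1, 2],
  [1, 1, 3, 1, 3, 1, 2, 0, 3, 3, 3, 3, 1, 2],
  [0, 0, 3, 1, 3, 3, 3, 1, 2, 2],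
  [2, 2, 0, 3, 3, 3, 3, 1, 1, 2],
  [1, 2, 0, 2, 2, 2, 0, 3, 3, 3],
  [0, 2, 0, 3, 3, 3, 3, 1, 1, 2],
  [2, 2, 0, 0, 3, 3, 1, 1, 3, 1, 2, 2],
  [1, 3, 3, 3, 3, 3, 3, 1, 1, 3, 3, 1, 3],
  [0, 2, 0, 0, 3, 3, 1, 1, 3, 1, 2, 2],
  [0, 0, 2, 2, 2, 2, 2, 2, 0, 0, 2, 2, 0],
  [2, 2, 0, 3, 3, 1, 1, 3, 1, 2, 0, 2],
  [1, 3, 3, 1, 1, 3, 3, 3, 3, 3, 3, 1, 3],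
  [0, 2, 0, 3, 3, 1, 1, 3, 1, 2, 0, 2],
  [0, 0, 2, 2, 0, 0, 2, 2, 2, 2, 2, 2, 0],
  [1, 1, 2, 2, 2, 0, 2, 0, 0, 2, 2, 2, 2],
  [1, 2, 2, 2, 0, 2, 0, 0, 2, 2, 0, 2],
  [1, 3, 3, 1, 2, 2, 0, 0, 3, 3, 1, 2, 0],
  [0, 0, 2, 0, 2, 0, 0, 2, 2, 0, 2, 2, 2],
  [1, 2, 2, 0, 2, 2, 0, 2, 2, 2, 2, 2],
  [3, 3, 3, 3, 1, 1, 3, 1, 3, 3, 1, 2, 0],
  [0, 2, 2, 2, 0, 2, 2, 0, 0, 2, 0, 2, 0],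
  [1, 1, 2, 2, 0, 3, 1, 3, 1, 2, 2, 2, 0],
  [2, 2, 2, 0, 2, 0, 0, 3, 3, 1, 2],
  [0, 0, 3, 1, 3, 1, 1, 3, 3, 1, 2, 2, 0],
  [0, 2, 2, 0, 2, 0, 0, 3, 3, 1, 2],
  [1, 3, 1, 2, 2, 0, 2, 0, 2, 0, 0, 2],
  [0, 0, 3, 3, 1, 2, 0, 2, 0, 2, 2],
  [3, 1, 1, 3, 1, 3, 1, 3, 1, 2, 2, 0],
  [1, 2, 2, 0, 3, 1, 3, 1, 3, 3, 3],
  [0, 0, 2, 0, 3, 3, 1, 2, 0, 2, 0, 0, 2]]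

/-- Words for the torus. -/
def dW : List (List ℕ) := [
  [],
  [],
  [3, 1, 1, 3, 1, 3, 1, 1, 3],
  [0, 2, 0, 2, 0, 2, 0, 2, 0, 2, 0, 2, 0],
  [2, 2, 2, 0, 3, 1, 2, 2, 2, 2],
  [2, 0, 0, 2, 0, 2, 0, 0, 2],
  [1, 3, 1, 3, 1, 3, 1, 3, 1, 3, 1, 3, 1],
  [3, 3, 3, 1, 2, 0, 3, 3, 3, 3]]

/-- A word for the Weyl element. -/
def wW : List ℕ := [0, 0, 3, 1, 2, 0, 3, 1, 2, 0, 3, 1, 2, 2]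

/-- Words in the kernel. -/
def z1 : List ℕ := [0, 0, 3, 3, 3, 1, 3, 1, 2, 2, 2, 1, 3, 1, 3, 3, 3]

/-- Words in the kernel. -/
def z2 : List ℕ := [1, 2, 0, 2, 0, 2, 2, 2, 0, 2, 2, 0, 2, 2, 2, 0, 2, 0, 2, 1]

end Cfsg.Agent.Lib.Sz8Cover
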