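import Cfsg.Agent.Lib.CosetEnum.Sz8x8960.Enum
import Cfsg.Agent.Lib.Sz8Cover.Words
import Cfsg.Agent.Lib.Sz8.Group
import Cfsg.Agent.Lib.SzMultiplier.Odd
import Cfsg.Agent.Lib.Multiplier.Sylow

/-!
The double double cover `2^2.Sz(8)` as a presented group on generators of orders `5` and `13`,
and its universality among stem extensions of `Sz(8)`.

The relators are of two kinds: conjugates of `(u x u⁻¹ y)^(±1)` with `x`, `y` of the same order
`5` or `13` whose image in `Sz(8)` is trivial (these hold for lifts of orders `5` and `13` in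
every stem extension, the kernel having order prime to `65`), and commutators with a central
element.
-/

set_option autoImplicit false
set_option linter.style.haveILetI false

namespace Cfsg.Agent.Lib.Sz8Cover

open Cfsg.Agent.Lib.CosetEnum Cfsg.Agent.Lib.Sz8 Cfsg.Agent.Lib.LieTwisted.Suzuki
open Cfsg.Agent.Lib.CosetEnum.Sz8x8960 (letters pres table)

universe u

/-- The cover. -/
abbrev P : Type := PresentedGroup pres

/-- The generators of `Sz(8)`. -/
noncomputable def gen : Gen → Sz8.N
  | .a => g5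
  | .b => g13

/-- Matrices of the letters. -/
def ML : ℕ → Matrix (Fin 4) (Fin 4) K8
  | 0 => utMat 1 (0 : K8) 1 * wMat K8
  | 1 => (utMat 1 (0 : K8) 1 * wMat K8) ^ 4
  | 2 => utMat 1 (0 : K8) (kE 3) * wMat K8
  | _ => (utMat 1 (0 : K8) (kE 3) * wMat K8) ^ 12

theorem word_cons (g : ℕ) (l : List ℕ) :
    letters.word (g :: l) = FreeGroup.mk [letters.sym g] * letters.word l := by simp [Letters.word]

theorem word_append (l l' : List ℕ) : letters.word (l ++ l') = letters.word l * letters.word l' := by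
  simp [Letters.word]

theorem g5_pow : g5 ^ 5 = 1 := orderOf_dvd_iff_pow_eq_one.1 order5.dvd

theorem g13_pow : g13 ^ 13 = 1 := orderOf_dvd_iff_pow_eq_one.1 order13.dvd

theorem mat_word (l : List ℕ) (hl : ∀ g ∈ l, g < 4) :
    mat (FreeGroup.lift gen (letters.word l)) = (l.map ML).prod := by
  induction l with
  | nil => simp [Letters.word, ← FreeGroup.one_eq_mk, mat_one]
  | cons g l ih =>
    rw [word_cons, map_mul, mat_mul, ih fun x hx => hl x (List.mem_cons_of_mem _ hx), List.map_cons,
      List.prod_cons]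
    congr 1
    have hg : g < 4 := hl g List.mem_cons_self
    have h5 : (g5)⁻¹ = g5 ^ 4 := inv_eq_of_mul_eq_one_right (by
      rw [← pow_succ']; exact g5_pow)
    have h13 : (g13)⁻¹ = g13 ^ 12 := inv_eq_of_mul_eq_one_right (by
      rw [← pow_succ']; exact g13_pow)
    interval_cases g
    · show mat (FreeGroup.lift gen (FreeGroup.of Gen.a)) = _
      rw [FreeGroup.lift_apply_of]; exact mat_g5
    · show mat (FreeGroup.lift gen (FreeGroup.of Gen.a)⁻¹) = _
      rw [map_inv, FreeGroup.lift_apply_of]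
      show mat g5⁻¹ = _
      rw [h5, mat_pow, mat_g5]; rfl
    · show mat (FreeGroup.lift gen (FreeGroup.of Gen.b)) = _
      rw [FreeGroup.lift_apply_of]; exact mat_g13
    · show mat (FreeGroup.lift gen (FreeGroup.of Gen.b)⁻¹) = _
      rw [map_inv, FreeGroup.lift_apply_of]
      show mat g13⁻¹ = _
      rw [h13, mat_pow, mat_g13]; rfl

/-! ### Checks on the words -/

theorem rl_check : ∀ l ∈ letters.RL, (∀ g ∈ l, g < 4) ∧ (l.map ML).prod = 1 := by decide +kernel

theorem rels_check : ∀ r ∈ letters.rels,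
    r ∈ [letters.word (List.replicate 5 0), letters.word (List.replicate 13 2)] ∨
    r ∈ exact.map (fun m => letters.word m.l) ∨ r ∈ central.map (fun m => letters.word m.1) := by
  decide +kernel

theorem rels_rl : ∀ r ∈ letters.rels, r ∈ letters.RL.map letters.word := by decide +kernel

theorem exact_check : ∀ m ∈ exact,
    letters.word m.l = letters.word m.c *
      (if m.neg then
        (letters.word m.u * letters.word [m.x] ^ m.k * (letters.word m.u)⁻¹ * letters.word [m.y] ^ m.j)⁻¹
      else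
        letters.word m.u * letters.word [m.x] ^ m.k * (letters.word m.u)⁻¹ * letters.word [m.y] ^ m.j) *
      (letters.word m.c)⁻¹ ∧
    ((m.x < 2 ∧ m.y < 2 ∧ m.o = 5) ∨ (2 ≤ m.x ∧ m.x < 4 ∧ 2 ≤ m.y ∧ m.y < 4 ∧ m.o = 13)) := by
  decide +kernel

theorem central_check : ∀ m ∈ central,
    letters.word m.1 = letters.word m.2.1 * (letters.word cz * letters.word [m.2.2] *
      (letters.word cz)⁻¹ * (letters.word [m.2.2])⁻¹) * (letters.word m.2.1)⁻¹ := by
  decide +kernel

theorem cz_check : (∀ g ∈ cz, g < 4) ∧ (cz.map ML).prod = 1 := by decide +kernel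

theorem uW_check : ∀ a b : K8, (∀ g ∈ uW.getD (8 * a.v.val + b.v.val) [], g < 4) ∧
    ((uW.getD (8 * a.v.val + b.v.val) []).map ML).prod = utMat 1 a b := by decide +kernel

theorem dW_check : ∀ e : K8, e ≠ 0 → (∀ g ∈ dW.getD e.v.val [], g < 4) ∧
    ((dW.getD e.v.val []).map ML).prod = dgMat 1 e := by decide +kernel

theorem wW_check : (∀ g ∈ wW, g < 4) ∧ (wW.map ML).prod = wMat K8 := by decide +kernel

theorem z_check : ((∀ g ∈ z1, g < 4) ∧ (z1.map ML).prod = 1) ∧
    ((∀ g ∈ z2, g < 4) ∧ (z2.map ML).prod = 1) := by decide +kernel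

/-! ### The map onto `Sz(8)` -/

theorem gen_rels : ∀ r ∈ pres, FreeGroup.lift gen r = 1 := by
  intro r hr
  obtain ⟨l, hl, rfl⟩ := List.mem_map.1 (rels_rl r hr)
  refine mat_injective ?_
  rw [mat_word l (rl_check l hl).1, (rl_check l hl).2, mat_one]

/-- The covering map. -/
noncomputable def σ : P →* Sz8.N := PresentedGroup.toGroup gen_rels

theorem σ_mk (w : FreeGroup Gen) : σ (PresentedGroup.mk pres w) = FreeGroup.lift gen w := rfl

theorem σ_surjective : Function.Surjective σ := by
  rw [← MonoidHom.range_eq_top, eq_top_iff]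
  rintro g -
  have hu : ∀ a b : K8, uS Sz8.hF a b ∈ σ.range := fun a b =>
    ⟨PresentedGroup.mk pres (letters.word (uW.getD (8 * a.v.val + b.v.val) [])),
      mat_injective (by rw [σ_mk, mat_word _ (uW_check a b).1, (uW_check a b).2]; rfl)⟩
  have hd : ∀ e : K8ˣ, dS Sz8.hF e ∈ σ.range := fun e =>
    ⟨PresentedGroup.mk pres (letters.word (dW.getD (e : K8).v.val [])),
      mat_injective (by rw [σ_mk, mat_word _ (dW_check e e.ne_zero).1, (dW_check e e.ne_zero).2]; rfl)⟩
  have hw : wS Sz8.hF ∈ σ.range :=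
    ⟨PresentedGroup.mk pres (letters.word wW),
      mat_injective (by rw [σ_mk, mat_word _ wW_check.1, wW_check.2]; rfl)⟩
  obtain ⟨a, b, e, rfl | ⟨x, y, rfl⟩⟩ := Sz8.hF.bruhat le_rfl g
  · exact mul_mem (hu a b) (hd e)
  · exact mul_mem (mul_mem (hu x y) hw) (mul_mem (hu a b) (hd e))

/-- The image of a generator. -/
abbrev A : P := PresentedGroup.of Gen.a

/-- The image of a generator. -/
abbrev B : P := PresentedGroup.of Gen.b

theorem A_pow : A ^ 5 = 1 := by
  have h : letters.word (List.replicate 5 0) = FreeGroup.of Gen.a ^ 5 := by decide +kernel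
  have hm : letters.word (List.replicate 5 0) ∈ letters.rels := by decide +kernel
  rw [h] at hm
  have h1 := PresentedGroup.one_of_mem (rels := pres) hm
  rwa [map_pow] at h1

theorem B_pow : B ^ 13 = 1 := by
  have h : letters.word (List.replicate 13 2) = FreeGroup.of Gen.b ^ 13 := by decide +kernel
  have hm : letters.word (List.replicate 13 2) ∈ letters.rels := by decide +kernel
  rw [h] at hm
  have h1 := PresentedGroup.one_of_mem (rels := pres) hm
  rwa [map_pow] at h1

theorem σ_B : σ B = g13 := by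
  show FreeGroup.lift gen (FreeGroup.of Gen.b) = _
  rw [FreeGroup.lift_apply_of]; rfl

theorem order_B : orderOf B = 13 := by
  haveI : Fact (Nat.Prime 13) := ⟨by norm_num⟩
  refine orderOf_eq_prime B_pow fun h => ?_
  have := congrArg σ h
  rw [map_one, σ_B] at this
  have := order13
  rw [‹g13 = 1›, orderOf_one] at this
  omega

theorem subOf_eq : subOf letters pres Sz8x8960.subWords = Subgroup.zpowers B := by
  rw [subOf, Subgroup.zpowers_eq_closure]
  have hphi : letters.phi pres 2 = B := by
    rw [Letters.phi_of_lt (show (2 : ℕ) < letters.K by decide +kernel)]; rfl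
  congr 1
  ext x
  constructor
  · rintro ⟨l, hl, rfl⟩
    rcases List.mem_singleton.1 hl with rfl
    simp [hphi]
  · rintro rfl
    exact ⟨[2], List.mem_singleton.2 rfl, by simp [hphi]⟩

theorem card_P : Nat.card P = 116480 := by
  have h := Subgroup.card_mul_index (Subgroup.zpowers B)
  rw [Nat.card_zpowers, order_B, ← subOf_eq, Sz8x8960.enum.index] at h
  omega

instance finite_P : Finite P := Nat.finite_of_card_ne_zero (by rw [card_P]; norm_num)

theorem card_ker : Nat.card σ.ker = 4 := by
  have h := Subgroup.card_mul_index σ.ker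
  have h2 : σ.ker.index = 29120 := by
    rw [Subgroup.index_ker, MonoidHom.range_eq_top.2 σ_surjective, Subgroup.card_top]
    exact card_N
  rw [h2] at h
  have h3 : Nat.card σ.ker * 29120 = 4 * 29120 := h.trans (card_P.trans (by norm_num))
  exact Nat.eq_of_mul_eq_mul_right (by norm_num) h3

/-! ### The kernel -/

theorem ker_central : σ.ker ≤ Subgroup.center P := by
  intro z hz
  rw [Subgroup.mem_center_iff]
  have key : ∀ (g : P) (o : ℕ), g ^ o = 1 → o.Coprime 6 → g * z = z * g := by
    intro g o hg ho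
    let ρ : P →* Equiv.Perm σ.ker := {
      toFun := fun p => (MulAut.conjNormal p).toEquiv
      map_one' := by rw [map_one]; rfl
      map_mul' := fun p q => by rw [map_mul]; rfl }
    have h4 : Nat.card σ.ker = 4 := card_ker
    classical
    haveI : Fintype σ.ker := Fintype.ofFinite _
    have hdvd : orderOf (ρ g) ∣ o := orderOf_dvd_of_pow_eq_one (by rw [← map_pow, hg, map_one])
    have h24 : orderOf (ρ g) ∣ 24 := by
      have := orderOf_dvd_natCard (ρ g)
      rwa [Nat.card_perm, h4] at this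
    have ho' : o.Coprime 24 := by
      have : (24 : ℕ) = 2 ^ 3 * 3 := by norm_num
      rw [this]
      exact Nat.Coprime.mul_right (Nat.Coprime.pow_right _ (ho.coprime_dvd_right (by norm_num)))
        (ho.coprime_dvd_right (by norm_num))
    have h1 : ρ g = 1 := orderOf_eq_one_iff.1 (Nat.eq_one_of_dvd_coprimes ho' hdvd h24)
    have := congrArg Subtype.val (Equiv.ext_iff.1 h1 ⟨z, hz⟩)
    change g * z * g⁻¹ = z at this
    exact mul_inv_eq_iff_eq_mul.1 this
  intro g
  have htop : g ∈ Subgroup.centralizer ({z} : Set P) := by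
    have hle : (⊤ : Subgroup P) ≤ Subgroup.centralizer ({z} : Set P) := by
      rw [← PresentedGroup.closure_range_of pres, Subgroup.closure_le]
      rintro _ ⟨x, rfl⟩
      rw [SetLike.mem_coe, Subgroup.mem_centralizer_singleton_iff]
      cases x
      · exact key A 5 A_pow (by norm_num)
      · exact key B 13 B_pow (by norm_num)
    exact hle trivial
  exact (Subgroup.mem_centralizer_singleton_iff.1 htop)

theorem eq_of_prime_orders {M : Type*} [CommGroup M] (f : P →* M) : ∀ p, f p ^ 65 = 1 := by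
  intro p
  have : (powMonoidHom 65 : M →* M).comp f = 1 := PresentedGroup.ext fun x => by
    cases x
    · show f A ^ 65 = 1
      rw [show (65 : ℕ) = 5 * 13 by norm_num, pow_mul, ← map_pow, A_pow, map_one, one_pow]
    · show f B ^ 65 = 1
      rw [show (65 : ℕ) = 13 * 5 by norm_num, pow_mul, ← map_pow, B_pow, map_one, one_pow]
  exact DFunLike.congr_fun this p

theorem pow4_of_mem_ker {z : P} (hz : z ∈ σ.ker) : z ^ 4 = 1 := by
  have h := pow_card_eq_one' (x := (⟨z, hz⟩ : σ.ker))
  rw [card_ker] at h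
  exact congrArg Subtype.val h

theorem ker_le_commutator : σ.ker ≤ commutator P := by
  intro z hz
  have h65 : Abelianization.of z ^ 65 = 1 := eq_of_prime_orders Abelianization.of z
  have h4 : Abelianization.of z ^ 4 = 1 := by rw [← map_pow, pow4_of_mem_ker hz, map_one]
  have : Abelianization.of z = 1 := by
    have := (pow_gcd_eq_one (m := 65) (n := 4)).2 ⟨h65, h4⟩
    simpa using this
  exact (QuotientGroup.eq_one_iff z).1 this

theorem klein : IsKleinFour σ.ker := by
  obtain ⟨ρ, hρ, hfix, -⟩ := Sz8x8960.enum.action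
  let j : Fin 8960 := ⟨0, by norm_num⟩
  have hscan : ∀ l : List ℕ, (∀ g ∈ l, g < 4) →
      ((ρ (PresentedGroup.mk pres (letters.word l)))⁻¹ j).1 = scan letters.K table l 0 := by
    intro l hl
    suffices ∀ i : Fin 8960, ((ρ (PresentedGroup.mk pres (letters.word l)))⁻¹ i).1 =
        scan letters.K table l i.1 from this j
    clear hfix
    induction l with
    | nil => intro i; simp [Letters.word, ← FreeGroup.one_eq_mk, scan]
    | cons g l ih =>
      intro i
      have hg : g < letters.K := hl g List.mem_cons_self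
      rw [word_cons, map_mul, ← Letters.phi_of_lt hg, map_mul, mul_inv_rev, Equiv.Perm.mul_apply,
        ih (fun x hx => hl x (List.mem_cons_of_mem _ hx)), hρ g hg]
      change scan letters.K table l (get32 table (i.1 * letters.K + g)) =
        force (get32 table (Nat.add (Nat.mul i.1 letters.K) g)) (scan letters.K table l)
      rw [force_eq]; rfl
  have sep : ∀ l l' : List ℕ, (∀ g ∈ l, g < 4) → (∀ g ∈ l', g < 4) →
      scan letters.K table l 0 ≠ scan letters.K table l' 0 →
      PresentedGroup.mk pres (letters.word l) ≠ PresentedGroup.mk pres (letters.word l') := by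
    intro l l' hl hl' h e
    apply h
    rw [← hscan l hl, ← hscan l' hl', e]
  have triv : ∀ l : List ℕ, (∀ g ∈ l, g < 4) → (l.map ML).prod = 1 →
      scan letters.K table l 0 = 0 → PresentedGroup.mk pres (letters.word l) = 1 := by
    intro l hl hM h0
    set p := PresentedGroup.mk pres (letters.word l) with hp
    have hk : σ p = 1 := mat_injective (by rw [hp, σ_mk, mat_word l hl, hM, mat_one])
    have hj : ρ p j = j := by
      have h1 : (ρ p)⁻¹ j = j := Fin.ext (by rw [hp, hscan l hl, h0])
      rw [Equiv.Perm.inv_def, Equiv.symm_apply_eq] at h1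
      exact h1.symm
    have hB : p ∈ Subgroup.zpowers B := subOf_eq ▸ (hfix p).2 hj
    have h13 : p ^ 13 = 1 := by
      obtain ⟨k, hk'⟩ := hB
      rw [← hk', ← zpow_natCast, ← zpow_mul, mul_comm, zpow_mul, zpow_natCast, B_pow, one_zpow]
    have := (pow_gcd_eq_one (m := 13) (n := 4)).2 ⟨h13, pow4_of_mem_ker (MonoidHom.mem_ker.2 hk)⟩
    simpa using this
  have hsc : scan letters.K table z1 0 ≠ scan letters.K table [] 0 ∧
      scan letters.K table z2 0 ≠ scan letters.K table [] 0 ∧
      scan letters.K table z1 0 ≠ scan letters.K table z2 0 ∧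
      scan letters.K table (z1 ++ z1) 0 = 0 ∧ scan letters.K table (z2 ++ z2) 0 = 0 := by
    decide +kernel
  obtain ⟨⟨l1, m1⟩, l2, m2⟩ := z_check
  have hmem : ∀ l : List ℕ, (∀ g ∈ l, g < 4) → (l.map ML).prod = 1 →
      PresentedGroup.mk pres (letters.word l) ∈ σ.ker := fun l hl hM =>
    MonoidHom.mem_ker.2 (mat_injective (by rw [σ_mk, mat_word l hl, hM, mat_one]))
  let x : σ.ker := ⟨_, hmem z1 l1 m1⟩
  let y : σ.ker := ⟨_, hmem z2 l2 m2⟩
  have happ : ∀ l : List ℕ, (∀ g ∈ l, g < 4) → ∀ g ∈ l ++ l, g < 4 := fun l hl g hg =>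
    (List.mem_append.1 hg).elim (hl g) (hl g)
  have hone : PresentedGroup.mk pres (letters.word []) = 1 := by
    simp [Letters.word, ← FreeGroup.one_eq_mk]
  have hx2 : x ^ 2 = 1 := Subtype.ext (by
    rw [SubmonoidClass.coe_pow, sq]
    show PresentedGroup.mk pres _ * PresentedGroup.mk pres _ = 1
    rw [← map_mul, ← word_append]
    exact triv _ (happ _ l1) (by rw [List.map_append, List.prod_append, m1, mul_one]) hsc.2.2.2.1)
  have hy2 : y ^ 2 = 1 := Subtype.ext (by
    rw [SubmonoidClass.coe_pow, sq]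
    show PresentedGroup.mk pres _ * PresentedGroup.mk pres _ = 1
    rw [← map_mul, ← word_append]
    exact triv _ (happ _ l2) (by rw [List.map_append, List.prod_append, m2, mul_one]) hsc.2.2.2.2)
  have hx1 : x ≠ 1 := fun e => sep z1 [] l1 (by simp) hsc.1 (by rw [hone]; exact congrArg Subtype.val e)
  have hy1 : y ≠ 1 := fun e => sep z2 [] l2 (by simp) hsc.2.1 (by rw [hone]; exact congrArg Subtype.val e)
  have hxy : x ≠ y := fun e => sep z1 z2 l1 l2 hsc.2.2.1 (congrArg Subtype.val e)
  have h4 : Nat.card σ.ker = 4 := card_ker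
  refine ⟨h4, ?_⟩
  classical
  have hcomm : x * y = y * x := Subtype.ext (Subgroup.mem_center_iff.1 (ker_central y.2) x.1)
  have hxy1 : x * y ≠ 1 := fun e => hxy (by
    calc x = x * (y ^ 2) := by rw [hy2, mul_one]
      _ = y := by rw [sq, ← mul_assoc, e, one_mul])
  have hxyx : x * y ≠ x := fun e => hy1 (mul_eq_left.1 e)
  have hxyy : x * y ≠ y := fun e => hx1 (mul_eq_right.1 e)
  haveI : Fintype σ.ker := Fintype.ofFinite _
  have huniv : ({1, x, y, x * y} : Finset σ.ker) = Finset.univ := by
    refine Finset.eq_univ_of_card _ ?_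
    rw [← Nat.card_eq_fintype_card, h4]
    rw [Finset.card_insert_of_notMem (by simp [hx1.symm, hy1.symm, hxy1.symm]),
      Finset.card_insert_of_notMem (by simp [hxy, hxyx.symm]),
      Finset.card_insert_of_notMem (by simp [hxyy.symm]), Finset.card_singleton]
  haveI : Nontrivial σ.ker := ⟨⟨x, 1, hx1⟩⟩
  have hsq : ∀ z : σ.ker, z ^ 2 = 1 := by
    intro z
    have hz : z ∈ ({1, x, y, x * y} : Finset σ.ker) := huniv ▸ Finset.mem_univ z
    simp only [Finset.mem_insert, Finset.mem_singleton] at hz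
    rcases hz with rfl | rfl | rfl | rfl
    · exact one_pow 2
    · exact hx2
    · exact hy2
    · rw [Commute.mul_pow hcomm, hx2, hy2, one_mul]
  exact Monoid.exponent_eq_prime_iff Nat.prime_two |>.2 fun z hz => orderOf_eq_prime (hsq z) hz

theorem σ_isStem : Cfsg.IsStemExtension σ := ⟨σ_surjective, ker_central, ker_le_commutator⟩

/-- The kernel as `Z/2 × Z/2`. -/
theorem ker_equiv : Nonempty (σ.ker ≃* Multiplicative (ZMod 2 × ZMod 2)) := by
  haveI := klein
  haveI : IsKleinFour (Multiplicative (ZMod 2 × ZMod 2)) := inferInstance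
  exact IsKleinFour.nonempty_mulEquiv

/-! ### Universality -/

theorem not_dvd_ker {Γ : Type u} [Group Γ] [Finite Γ] (τ : Γ →* Sz8.N) (hτ : Cfsg.IsStemExtension τ)
    {p : ℕ} (hp : p.Prime) (hd : p ∣ 65) : ¬ p ∣ Nat.card τ.ker := by
  haveI : Fact p.Prime := ⟨hp⟩
  refine Multiplier.not_dvd_card_ker_of_cyclic τ hτ fun S => ?_
  refine SzMultiplier.Odd.sylow_cyclic Sz8.hF (fun e => by subst e; norm_num at hd) ?_ S
  rw [card_k8]; exact hd

theorem exists_map {Γ : Type u} [Group Γ] [Finite Γ] (τ : Γ →* Sz8.N)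
    (hτ : Cfsg.IsStemExtension τ) : ∃ φ : P →* Γ, τ.comp φ = σ := by
  have hcop : ∀ o : ℕ, o = 5 ∨ o = 13 → o.Coprime (Nat.card τ.ker) := by
    rintro o (rfl | rfl)
    · exact (Nat.Prime.coprime_iff_not_dvd (by norm_num)).2
        (not_dvd_ker τ hτ (by norm_num) (by norm_num))
    · exact (Nat.Prime.coprime_iff_not_dvd (by norm_num)).2
        (not_dvd_ker τ hτ (by norm_num) (by norm_num))
  have kill : ∀ o : ℕ, o = 5 ∨ o = 13 → ∀ k ∈ τ.ker, k ^ o = 1 → k = 1 := by
    intro o ho k hk h1
    have h2 : k ^ Nat.card τ.ker = 1 := congrArg Subtype.val (pow_card_eq_one' (x := (⟨k, hk⟩ : τ.ker)))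
    have := pow_gcd_eq_one.2 ⟨h1, h2⟩
    rwa [(hcop o ho).gcd_eq_one, pow_one] at this
  have lift1 : ∀ (g : Sz8.N) (o : ℕ), o = 5 ∨ o = 13 → g ^ o = 1 →
      ∃ x : Γ, τ x = g ∧ x ^ o = 1 := by
    intro g o ho hg
    obtain ⟨x, rfl⟩ := hτ.1 g
    let k : τ.ker := ⟨x ^ o, by rw [MonoidHom.mem_ker, map_pow, hg]⟩
    let w : τ.ker := (powCoprime (hcop o ho).symm).symm k
    have hwo : w ^ o = k := (powCoprime (hcop o ho).symm).apply_symm_apply k
    refine ⟨x * (w : Γ)⁻¹, by rw [map_mul, map_inv, MonoidHom.mem_ker.1 w.2, inv_one, mul_one], ?_⟩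
    have hc : Commute x (w : Γ)⁻¹ :=
      (Subgroup.mem_center_iff.1 (inv_mem (hτ.2.1 w.2)) x)
    rw [hc.mul_pow, inv_pow, ← SubmonoidClass.coe_pow, hwo]
    exact mul_inv_cancel (x ^ o)
  obtain ⟨a, ha, ha5⟩ := lift1 g5 5 (Or.inl rfl) g5_pow
  obtain ⟨b, hb, hb13⟩ := lift1 g13 13 (Or.inr rfl) g13_pow
  let f : Gen → Γ := fun x => match x with | .a => a | .b => b
  let ψ := FreeGroup.lift f
  have hτψ : τ.comp ψ = FreeGroup.lift gen := by
    apply FreeGroup.ext_hom
    intro x
    cases x <;> simp [ψ, f, gen, ha, hb]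
  have hτψ' : ∀ w, τ (ψ w) = FreeGroup.lift gen w := DFunLike.congr_fun hτψ
  have hrel : ∀ r ∈ pres, ψ r = 1 := by
    intro r hr
    rcases rels_check r hr with h | h | h
    · simp only [List.mem_cons, List.not_mem_nil, or_false] at h
      rcases h with rfl | rfl
      · rw [show letters.word (List.replicate 5 0) = FreeGroup.of Gen.a ^ 5 by decide +kernel,
          map_pow]
        simpa [ψ, f] using ha5
      · rw [show letters.word (List.replicate 13 2) = FreeGroup.of Gen.b ^ 13 by decide +kernel,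
          map_pow]
        simpa [ψ, f] using hb13
    · obtain ⟨m, hm, rfl⟩ := List.mem_map.1 h
      obtain ⟨he, ho⟩ := exact_check m hm
      set E := letters.word m.u * letters.word [m.x] ^ m.k * (letters.word m.u)⁻¹ *
        letters.word [m.y] ^ m.j with hE
      have hτ1 : τ (ψ (letters.word m.l)) = 1 := by rw [hτψ', gen_rels _ hr]
      have hτE : τ (ψ E) = 1 := by
        have he' := congrArg (fun w => τ (ψ w)) he
        simp only [map_mul, map_inv, hτ1] at he'
        cases hb : m.neg <;> simp only [hb, if_true, Bool.false_eq_true, if_false, map_inv] at he' <;>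
        · have := conj_eq_one_iff.1 he'.symm
          simpa using this
      have hord : ∀ g : ℕ, (g < 2 ∧ m.o = 5) ∨ (2 ≤ g ∧ g < 4 ∧ m.o = 13) →
          ψ (letters.word [g]) ^ m.o = 1 := by
        rintro g (⟨hg, e⟩ | ⟨hg, hg', e⟩) <;> rw [e] <;> interval_cases g
        · show ψ (FreeGroup.of Gen.a) ^ 5 = 1
          simpa [ψ, f] using ha5
        · show ψ (FreeGroup.of Gen.a)⁻¹ ^ 5 = 1
          simpa [ψ, f, inv_pow] using ha5
        · show ψ (FreeGroup.of Gen.b) ^ 13 = 1
          simpa [ψ, f] using hb13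
        · show ψ (FreeGroup.of Gen.b)⁻¹ ^ 13 = 1
          simpa [ψ, f, inv_pow] using hb13
      have hmo : m.o = 5 ∨ m.o = 13 := by omega
      have hX : ψ (letters.word [m.x]) ^ m.o = 1 := hord _ (by omega)
      have hY : ψ (letters.word [m.y]) ^ m.o = 1 := hord _ (by omega)
      have hEo : ψ E = 1 := by
        refine kill m.o hmo _ (MonoidHom.mem_ker.2 hτE) ?_
        have hk : ψ E ∈ Subgroup.center Γ := hτ.2.1 (MonoidHom.mem_ker.2 hτE)
        have h1 : (ψ (letters.word m.u * letters.word [m.x] ^ m.k * (letters.word m.u)⁻¹)) ^ m.o = 1 := by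
          simp only [map_mul, map_inv, map_pow]
          rw [conj_pow, ← pow_mul, mul_comm m.k, pow_mul, hX, one_pow, mul_one, mul_inv_cancel]
        have h2 : (ψ (letters.word [m.y] ^ m.j)) ^ m.o = 1 := by
          rw [map_pow, ← pow_mul, mul_comm m.j, pow_mul, hY, one_pow]
        have hsplit : ψ (letters.word m.u * letters.word [m.x] ^ m.k * (letters.word m.u)⁻¹) =
            ψ E * (ψ (letters.word [m.y] ^ m.j))⁻¹ := by rw [eq_mul_inv_iff_mul_eq, ← map_mul, hE]
        rw [hsplit, Commute.mul_pow (Subgroup.mem_center_iff.1 hk _).symm, inv_pow, h2, inv_one,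
          mul_one] at h1
        exact h1
      rw [he]
      cases hb : m.neg <;> simp [hEo]
    · obtain ⟨m, hm, rfl⟩ := List.mem_map.1 h
      have hz : ψ (letters.word cz) ∈ Subgroup.center Γ := hτ.2.1 (by
        rw [MonoidHom.mem_ker, hτψ']
        exact mat_injective (by rw [mat_word cz cz_check.1, cz_check.2, mat_one]))
      rw [central_check m hm]
      simp only [map_mul, map_inv]
      have hc := Subgroup.mem_center_iff.1 hz (ψ (letters.word [m.2.2]))
      rw [← hc]
      group
  refine ⟨PresentedGroup.toGroup hrel, PresentedGroup.ext fun x => ?_⟩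
  cases x <;> simp [σ, f, gen, ha, hb]

theorem map_ker_surjective {Γ : Type u} [Group Γ] [Finite Γ] (τ : Γ →* Sz8.N)
    (hτ : Cfsg.IsStemExtension τ) : ∃ π : σ.ker →* τ.ker, Function.Surjective π := by
  obtain ⟨φ, hφ⟩ := exists_map τ hτ
  have hφ' : ∀ p, τ (φ p) = σ p := DFunLike.congr_fun hφ
  have hsup : φ.range ⊔ τ.ker = ⊤ := by
    rw [eq_top_iff]
    rintro g -
    obtain ⟨p, hp⟩ := σ_surjective (τ g)
    have hk : (φ p)⁻¹ * g ∈ τ.ker := by
      rw [MonoidHom.mem_ker, map_mul, map_inv, hφ', hp, inv_mul_cancel]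
    rw [show g = φ p * ((φ p)⁻¹ * g) by group]
    exact Subgroup.mul_mem_sup ⟨p, rfl⟩ hk
  have hle : τ.ker ≤ φ.range := by
    refine le_trans hτ.2.2 (le_trans (Multiplier.commutator_le_of_sup_central _ _ hτ.2.1 hsup) ?_)
    rw [Subgroup.commutator_le]
    intro g hg g' hg'
    exact mul_mem (mul_mem (mul_mem hg hg') (inv_mem hg)) (inv_mem hg')
  refine ⟨(φ.domRestrict σ.ker).codRestrict τ.ker (fun p => ?_), ?_⟩
  · rw [MonoidHom.mem_ker]
    show τ (φ p.1) = 1
    rw [hφ']; exact p.2
  · rintro ⟨k, hk⟩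
    obtain ⟨p, rfl⟩ := hle hk
    exact ⟨⟨p, by rw [MonoidHom.mem_ker, ← hφ']; exact hk⟩, rfl⟩

end Cfsg.Agent.Lib.Sz8Cover
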