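import Mathlib.GroupTheory.FreeGroup.Basic

/-! Names for two generators of the cover of `Sz(8)`. -/

set_option autoImplicit false

namespace Cfsg.Agent.Lib.Sz8Cover

/-- The generators. -/
inductive Gen
  | a
  | b
deriving DecidableEq

end Cfsg.Agent.Lib.Sz8Cover
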